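import Groth.Agent.BlowUpLib.Glue
import Groth.Agent.ModPairLib.BlowUp

/-!
# Residual ideals on the blowing up of a sum of two ideals
-/

set_option autoImplicit false
set_option linter.style.haveILetI false
set_option backward.isDefEq.respectTransparency false
set_option backward.isDefEq.respectTransparency.types false

universe u

open CategoryTheory Limits AlgebraicGeometry

namespace Groth.Agent.BlowSep17

variable {X X' : Scheme.{u}}

theorem mem_support_iff_forall (I : X.IdealSheafData) (W : X.affineOpens) {z : X} (hz : z ∈ W.1) :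
    z ∈ I.support ↔ ∀ s ∈ I.ideal W, z ∉ X.basicOpen s := by
  rw [Scheme.IdealSheafData.mem_support_iff_of_mem (U := W) hz, Scheme.mem_zeroLocus_iff]
  rfl

theorem mem_support_comap (I : X.IdealSheafData) (b : X' ⟶ X) (z : X') :
    z ∈ (I.comap b).support ↔ b z ∈ I.support := by
  rw [Scheme.IdealSheafData.support_comap]
  rfl

/-- On the blowing up of `I₁ ⊔ I₂`, the closure of a set lying over `supp I₁ \ supp I₂` is cut out by the residual
ideal of `I₁`, and the residual ideal of `I₂` is trivial along it. -/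
theorem residual {I₁ I₂ : X.IdealSheafData} {b : X' ⟶ X} (S : Set X) (hS₁ : S ⊆ (I₁.support : Set X))
    (hS₂ : Disjoint S (I₂.support : Set X)) (W : X'.affineOpens) (t : Γ(X', W.1))
    (ht : t ∈ nonZeroDivisors Γ(X', W.1)) (hJ : ((I₁ ⊔ I₂).comap b).ideal W = Ideal.span {t})
    {x : X'} (hxW : x ∈ W.1) (hx : x ∈ closure ((fun z => b z) ⁻¹' S)) :
    ∃ A₁ : Ideal Γ(X', W.1), (I₁.comap b).ideal W ≤ A₁ * Ideal.span {t} ∧
      (∀ a ∈ A₁, x ∉ X'.basicOpen a) ∧
      ∃ a₂ : Γ(X', W.1), a₂ * t ∈ (I₂.comap b).ideal W ∧ x ∈ X'.basicOpen a₂ := by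
  have hsum : ((I₁ ⊔ I₂).comap b).ideal W = (I₁.comap b).ideal W ⊔ (I₂.comap b).ideal W := by
    rw [Scheme.IdealSheafData.comap_sup, Scheme.IdealSheafData.ideal_sup, Pi.sup_apply]
  rw [hJ] at hsum
  let A₁ : Ideal Γ(X', W.1) :=
    Submodule.comap (LinearMap.mulRight Γ(X', W.1) t) ((I₁.comap b).ideal W)
  have hA : ∀ a, a ∈ A₁ ↔ a * t ∈ (I₁.comap b).ideal W := fun a => Iff.rfl
  have hvan : ∀ a ∈ A₁, x ∉ X'.basicOpen a := by
    intro a ha hxa
    obtain ⟨w, hwa, hwS⟩ := mem_closure_iff.1 hx _ (X'.basicOpen a).2 hxa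
    have hwW : w ∈ W.1 := X'.basicOpen_le a hwa
    have hw1 : w ∈ (I₁.comap b).support := (mem_support_comap I₁ b w).2 (hS₁ hwS)
    have hwJ : w ∉ ((I₁ ⊔ I₂).comap b).support := fun h => by
      rw [mem_support_comap, Scheme.IdealSheafData.support_sup] at h
      exact Set.disjoint_left.1 hS₂ hwS h.2
    refine hwJ ((mem_support_iff_forall _ W hwW).2 fun r hr hwr => ?_)
    rw [hJ] at hr
    obtain ⟨c, rfl⟩ := Ideal.mem_span_singleton'.1 hr
    rw [Scheme.basicOpen_mul] at hwr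
    have := (mem_support_iff_forall _ W hwW).1 hw1 _ ((hA a).1 ha)
    rw [Scheme.basicOpen_mul] at this
    exact this ⟨hwa, hwr.2⟩
  refine ⟨A₁, fun k hk => ?_, hvan, ?_⟩
  · obtain ⟨a, rfl⟩ := Ideal.mem_span_singleton'.1 (hsum.ge (Submodule.mem_sup_left hk))
    exact Ideal.mul_mem_mul hk (Ideal.mem_span_singleton_self t)
  obtain ⟨k₁, hk₁, k₂, hk₂, hk⟩ := Submodule.mem_sup.1 (hsum.le (Ideal.mem_span_singleton_self t))
  obtain ⟨a₁, ha₁⟩ := Ideal.mem_span_singleton'.1 (hsum.ge (Submodule.mem_sup_left hk₁))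
  obtain ⟨a₂, ha₂⟩ := Ideal.mem_span_singleton'.1 (hsum.ge (Submodule.mem_sup_right hk₂))
  have hone : a₁ + a₂ = 1 := by
    have h0 : (a₁ + a₂ - 1) * t = 0 := by rw [sub_mul, add_mul, ha₁, ha₂, hk, one_mul, sub_self]
    exact sub_eq_zero.1 ((mem_nonZeroDivisors_iff_right.1 ht) _ h0)
  refine ⟨a₂, ha₂ ▸ hk₂, ?_⟩
  have h1 := hvan a₁ ((hA a₁).2 (ha₁ ▸ hk₁))
  rw [X'.mem_basicOpen a₁ x hxW] at h1
  rw [X'.mem_basicOpen a₂ x hxW]
  exact (IsLocalRing.isUnit_or_isUnit_of_isUnit_add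
    (by rw [← map_add, hone, map_one]; exact isUnit_one)).resolve_left h1

/-- After blowing up `I₁ ⊔ I₂` the closure of the image of `f` misses what lies over the closure of `S`, as soon as
`I₂` is contained in `I₁` modulo the ideal of `f`. -/
theorem disjoint_closure {Y Z : Scheme.{u}} (p : Z ⟶ X) (f : Y ⟶ Z) (q : X' ⟶ X) (S : Set X)
    {𝓘₁ 𝓘₂ : X.IdealSheafData} (hS₁ : S ⊆ (𝓘₁.support : Set X)) (hS₂ : Disjoint S (𝓘₂.support : Set X))
    (hY : ∀ y, p (f y) ∉ (𝓘₁ ⊔ 𝓘₂).support) (hincl : 𝓘₂.comap p ≤ 𝓘₁.comap p ⊔ f.ker)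
    (hq : BlowUp.IsEffCartierIdeal ((𝓘₁ ⊔ 𝓘₂).comap q)) :
    Disjoint (closure (Set.range (fun y => (pullback.snd f (pullback.fst p q)) y)))
      ((fun z => (pullback.snd p q) z) ⁻¹' closure ((fun x' => q x') ⁻¹' S)) := by
  rw [Set.disjoint_left]
  intro z hzY hz
  let pr := pullback.fst p q
  let pr' := pullback.snd p q
  let f' := pullback.snd f pr
  let x' : X' := pr' z
  obtain ⟨W, hxW, t, ht, hJ⟩ := hq x'
  obtain ⟨A₁, hA₁, hvan, a₂, ha₂, hxa₂⟩ := residual S hS₁ hS₂ W t ht hJ hxW hz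
  obtain ⟨W', hW', hzW', hle⟩ := exists_isAffineOpen_mem_and_subset (U := pr' ⁻¹ᵁ W.1) (x := z) hxW
  let W'' : (pullback p q).affineOpens := ⟨W', hW'⟩
  have e : W''.1 ≤ pr' ⁻¹ᵁ W.1 := hle
  let φ := (pr'.appLE W.1 W''.1 e).hom
  have hpt : ∀ a : Γ(X', W.1), z ∈ (pullback p q).basicOpen (φ a) ↔ x' ∈ X'.basicOpen a := fun a => by
    show z ∈ (pullback p q).basicOpen (pr'.appLE W.1 W''.1 e a) ↔ _
    rw [Scheme.basicOpen_appLE]
    exact ⟨fun h => h.2, fun h => ⟨hzW', h⟩⟩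
  have hcomap : ∀ I : X.IdealSheafData, ((I.comap p).comap pr).ideal W'' = ((I.comap q).ideal W).map φ := fun I => by
    rw [← Scheme.IdealSheafData.comap_comp, show pr ≫ p = pr' ≫ q from pullback.condition,
      Scheme.IdealSheafData.comap_comp, ModPairLib.ideal_comap _ pr' W W'' e]
  have hker : (f.ker).comap pr ≤ f'.ker := by
    rw [← Scheme.IdealSheafData.le_map_iff_comap_le, Scheme.IdealSheafData.map_ker, ← pullback.condition]
    exact Scheme.Hom.le_ker_comp _ _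
  have hincl' : (𝓘₂.comap p).comap pr ≤ (𝓘₁.comap p).comap pr ⊔ f'.ker := by
    refine ((Scheme.IdealSheafData.comap_mono pr hincl).trans ?_)
    show (𝓘₁.comap p ⊔ f.ker).comap pr ≤ _
    rw [Scheme.IdealSheafData.comap_sup]
    exact sup_le_sup_left hker _
  have h2 : φ a₂ * φ t ∈ ((𝓘₁.comap p).comap pr).ideal W'' ⊔ f'.ker.ideal W'' := by
    have h := hincl' W'' (show φ a₂ * φ t ∈ ((𝓘₂.comap p).comap pr).ideal W'' by
      rw [hcomap, ← map_mul]; exact Ideal.mem_map_of_mem φ ha₂)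
    simpa only [Scheme.IdealSheafData.ideal_sup, Pi.sup_apply] using h
  obtain ⟨m, hm, k, hk, hmk⟩ := Submodule.mem_sup.1 h2
  have hle2 : ((𝓘₁.comap p).comap pr).ideal W'' ≤ A₁.map φ * Ideal.span {φ t} := by
    rw [hcomap]
    refine (Ideal.map_mono hA₁).trans ?_
    rw [Ideal.map_mul, Ideal.map_span, Set.image_singleton]
  have hm2 : m ∈ A₁.map φ * Ideal.span {φ t} := by
    exact hle2 hm
  obtain ⟨c, hc, hct⟩ : ∃ c ∈ A₁.map φ, c * φ t = m := by
    obtain ⟨c, hc, e⟩ := Ideal.mem_mul_span_singleton.1 hm2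
    exact ⟨c, hc, e⟩
  have hkey : (φ a₂ - c) * φ t = k := by
    rw [sub_mul, hct, ← hmk, add_sub_cancel_left]
  have hk' : (φ a₂ - c) * φ t ∈ f'.ker.ideal W'' := hkey ▸ hk
  -- `t` is invertible on the image, so `a₂ - c` vanishes there
  have hzc : z ∉ (pullback p q).basicOpen (φ a₂ - c) := by
    intro hz'
    obtain ⟨y, hy, ⟨y', rfl⟩⟩ := mem_closure_iff.1 hzY _ ((pullback p q).basicOpen (φ a₂ - c)).2 hz'
    have hyW : f' y' ∈ W''.1 := (pullback p q).basicOpen_le _ hy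
    have hyJ : pr' (f' y') ∉ ((𝓘₁ ⊔ 𝓘₂).comap q).support := fun h => by
      rw [mem_support_comap, ← Scheme.Hom.comp_apply, ← pullback.condition, Scheme.Hom.comp_apply,
        ← Scheme.Hom.comp_apply f' pr, ← pullback.condition, Scheme.Hom.comp_apply] at h
      exact hY _ h
    have hyt : f' y' ∈ (pullback p q).basicOpen (φ t) := by
      show f' y' ∈ (pullback p q).basicOpen (pr'.appLE W.1 W''.1 e t)
      rw [Scheme.basicOpen_appLE]
      refine ⟨hyW, ?_⟩
      by_contra hn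
      refine hyJ ((mem_support_iff_forall _ W (e hyW)).2 fun r hr hr' => hn ?_)
      rw [hJ] at hr
      obtain ⟨c', rfl⟩ := Ideal.mem_span_singleton'.1 hr
      rw [Scheme.basicOpen_mul] at hr'
      exact hr'.2
    have hsupp : f' y' ∈ f'.ker.support := f'.range_subset_ker_support ⟨y', rfl⟩
    have := (mem_support_iff_forall _ W'' hyW).1 hsupp _ hk'
    rw [Scheme.basicOpen_mul] at this
    exact this ⟨hy, hyt⟩
  have hcv : z ∉ (pullback p q).basicOpen c := by
    rw [(pullback p q).mem_basicOpen c z hzW']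
    have hle3 : A₁.map φ ≤ (IsLocalRing.maximalIdeal _).comap ((pullback p q).presheaf.germ W''.1 z hzW').hom := by
      rw [Ideal.map_le_iff_le_comap]
      intro a ha
      rw [Ideal.mem_comap, Ideal.mem_comap, IsLocalRing.mem_maximalIdeal]
      intro hu
      exact hvan a ha ((hpt a).1 (((pullback p q).mem_basicOpen _ z hzW').2 hu))
    exact fun hu => (IsLocalRing.mem_maximalIdeal _).1 (hle3 hc) hu
  rw [(pullback p q).mem_basicOpen _ z hzW', map_sub] at hzc
  rw [(pullback p q).mem_basicOpen _ z hzW'] at hcv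
  have hu : IsUnit (((pullback p q).presheaf.germ W''.1 z hzW').hom (φ a₂)) :=
    ((pullback p q).mem_basicOpen _ z hzW').1 ((hpt a₂).2 hxa₂)
  rw [← sub_add_cancel (((pullback p q).presheaf.germ W''.1 z hzW').hom (φ a₂))
    (((pullback p q).presheaf.germ W''.1 z hzW').hom c)] at hu
  rcases IsLocalRing.isUnit_or_isUnit_of_isUnit_add hu with h | h
  · exact hzc h
  · exact hcv h

end Groth.Agent.BlowSep17
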