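import Groth.Agent.BlowUpLib.Glue
import Groth.Agent.ModPairLib.Basic

/-!
# The strict transform of a closed subscheme is closed in the blowing up
-/

set_option autoImplicit false
set_option linter.style.haveILetI false
set_option backward.isDefEq.respectTransparency false
set_option backward.isDefEq.respectTransparency.types false

universe u

open CategoryTheory Limits AlgebraicGeometry

namespace Groth.Agent.BlowSep17

variable {X X' Y Y' : Scheme.{u}}

theorem isSTDom_of_fac {A B C : Scheme.{u}} (f : A ⟶ B) (g : B ⟶ C) [IsSchemeTheoreticallyDominant (f ≫ g)] :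
    IsSchemeTheoreticallyDominant g :=
  ⟨le_bot_iff.1 ((Scheme.Hom.le_ker_comp f g).trans (f ≫ g).ker_eq_bot.le)⟩

/-- The lift of a closed immersion to the blowings up is a closed immersion, and is schematically dense over the
complement of the centre. -/
theorem isClosedImmersion_lift {𝓘 : X.IdealSheafData} {b : X' ⟶ X} (hb : BlowUp.IsBlowUp b 𝓘)
    (f : Y ⟶ X) [IsClosedImmersion f] {b' : Y' ⟶ Y} (hb' : BlowUp.IsBlowUp b' (𝓘.comap f))
    (k : Y' ⟶ X') (hk : k ≫ b = b' ≫ f) : IsClosedImmersion k := by
  let E := 𝓘.comap b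
  let P := (f.ker.comap b).subschemeι
  let U₀ := ModPair.interior (E.comap P)
  haveI : IsAffineHom U₀.ι := ModPairLib.isAffineHom_interior
    ((ModPairLib.isLocPrincipal_of_isEffCartier hb.1).comap P)
  let j := U₀.ι ≫ P
  haveI : QuasiCompact j := inferInstance
  let σ := j.imageι
  haveI : IsSchemeTheoreticallyDominant j.toImage := ModPairLib.isSchemeTheoreticallyDominant_toImage j
  -- the image has effective Cartier exceptional ideal
  have hS : BlowUp.IsEffCartierIdeal (E.comap σ) := by
    let V := ModPair.interior (E.comap σ)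
    have hr : Set.range j.toImage ⊆ Set.range V.ι := by
      rw [Scheme.Opens.range_ι]
      rintro _ ⟨y, rfl⟩ hy
      rw [Scheme.IdealSheafData.support_comap] at hy
      have hy' : j y ∈ E.support := by
        rw [← j.toImage_imageι, Scheme.Hom.comp_apply]
        exact hy
      refine y.2 ?_
      rw [Scheme.IdealSheafData.support_comap]
      exact hy'
    have he : IsOpenImmersion.lift V.ι j.toImage hr ≫ V.ι = j.toImage := IsOpenImmersion.lift_fac _ _ _
    haveI : IsSchemeTheoreticallyDominant (IsOpenImmersion.lift V.ι j.toImage hr ≫ V.ι) := by rw [he]; infer_instance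
    haveI : IsSchemeTheoreticallyDominant V.ι := isSTDom_of_fac (IsOpenImmersion.lift V.ι j.toImage hr) V.ι
    haveI : IsAffineHom V.ι := ModPairLib.isAffineHom_interior
      ((ModPairLib.isLocPrincipal_of_isEffCartier hb.1).comap σ)
    exact ModPairLib.isEffCartier_of_dense ((ModPairLib.isLocPrincipal_of_isEffCartier hb.1).comap σ) V le_rfl
  have hle : f.ker ≤ (σ ≫ b).ker := by
    have h1 : (j.toImage ≫ σ ≫ b).ker = (σ ≫ b).ker := by
      rw [Scheme.Hom.ker_comp j.toImage (σ ≫ b), j.toImage.ker_eq_bot, Scheme.IdealSheafData.map_bot]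
    rw [← h1, j.toImage_imageι_assoc, Category.assoc, Scheme.Hom.ker_comp U₀.ι (P ≫ b)]
    refine le_trans ?_ (Scheme.IdealSheafData.map_mono (P ≫ b) bot_le)
    dsimp only
    rw [Scheme.IdealSheafData.map_bot, Scheme.Hom.ker_comp, Scheme.IdealSheafData.ker_subschemeι]
    exact Scheme.IdealSheafData.le_map_comap _ _
  let σY := IsClosedImmersion.lift f (σ ≫ b) hle
  have hσY : σY ≫ f = σ ≫ b := IsClosedImmersion.lift_fac _ _ _
  have hC : BlowUp.IsEffCartierIdeal ((𝓘.comap f).comap σY) := by
    rw [← Scheme.IdealSheafData.comap_comp, hσY, Scheme.IdealSheafData.comap_comp]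
    exact hS
  obtain ⟨u, hu, -⟩ := hb'.2 _ σY hC
  change u ≫ b' = σY at hu
  have huk : u ≫ k = σ := BlowUpLib.isBlowUp_hom_ext hb (by rw [Category.assoc, hk, reassoc_of% hu, hσY]) (by
    rw [Scheme.IdealSheafData.comap_comp]
    exact hS)
  -- conversely `k` lands in the image
  have hkker : σ.ker ≤ k.ker := by
    rw [show σ.ker = j.ker from j.ker.ker_subschemeι]
    let W := ModPair.interior ((𝓘.comap f).comap b')
    haveI : IsSchemeTheoreticallyDominant W.ι := ModPairLib.isSchemeTheoreticallyDominant_interior hb'.1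
    have hkW : (W.ι ≫ k).ker = k.ker := by
      rw [Scheme.Hom.ker_comp, W.ι.ker_eq_bot, Scheme.IdealSheafData.map_bot]
    rw [← hkW]
    have hP : P.ker ≤ k.ker := by
      rw [Scheme.IdealSheafData.ker_subschemeι, ← Scheme.IdealSheafData.le_map_iff_comap_le,
        Scheme.IdealSheafData.map_ker, hk]
      exact Scheme.Hom.le_ker_comp _ _
    let l := IsClosedImmersion.lift P k hP
    have hl : l ≫ P = k := IsClosedImmersion.lift_fac _ _ _
    have hr : Set.range (W.ι ≫ l) ⊆ Set.range U₀.ι := by
      rw [Scheme.Opens.range_ι]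
      rintro _ ⟨y, rfl⟩ hy
      rw [Scheme.IdealSheafData.support_comap] at hy
      refine y.2 ?_
      show (W.ι y) ∈ (((𝓘.comap f).comap b').support : Set Y')
      rw [← Scheme.IdealSheafData.comap_comp, ← hk, Scheme.IdealSheafData.comap_comp, Scheme.IdealSheafData.support_comap]
      show k (W.ι y) ∈ E.support
      rw [← hl, Scheme.Hom.comp_apply, ← Scheme.Hom.comp_apply W.ι l]
      exact hy
    have hfac : IsOpenImmersion.lift U₀.ι (W.ι ≫ l) hr ≫ j = W.ι ≫ k := by
      rw [← Category.assoc, IsOpenImmersion.lift_fac, Category.assoc, hl]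
    rw [← hfac]
    exact Scheme.Hom.le_ker_comp _ _
  let v := IsClosedImmersion.lift σ k hkker
  have hv : v ≫ σ = k := IsClosedImmersion.lift_fac _ _ _
  have h1 : u ≫ v = 𝟙 _ := by rw [← cancel_mono σ, Category.assoc, hv, huk, Category.id_comp]
  have h2 : v ≫ u = 𝟙 _ := BlowUpLib.isBlowUp_hom_ext hb' (by
    rw [Category.id_comp, Category.assoc, hu, ← cancel_mono f, Category.assoc, hσY, ← Category.assoc, hv, hk]) (by
    rw [Category.id_comp]; exact hb'.1)
  haveI : IsIso v := ⟨u, h2, h1⟩
  rw [← hv]
  infer_instance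

end Groth.Agent.BlowSep17
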