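import Groth.Agent.BlowSep17.Basic
import Groth.Agent.MeroX.Basic
import Groth.Agent.MeroX.DivDim

/-!
# Multiples of the exceptional generator on a strict transform
-/

set_option autoImplicit false
set_option linter.style.haveILetI false
set_option backward.isDefEq.respectTransparency false
set_option backward.isDefEq.respectTransparency.types false

universe u

open CategoryTheory Limits AlgebraicGeometry

namespace Groth.Agent.BlowSep17

variable {X Y : Scheme.{u}}

theorem comap_subschemeι_self (J : X.IdealSheafData) : J.comap J.subschemeι = ⊥ := by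
  refine le_bot_iff.1 (Scheme.IdealSheafData.le_map_iff_comap_le.1 ?_)
  rw [Scheme.IdealSheafData.map_bot, Scheme.IdealSheafData.ker_subschemeι]

/-- A function whose product with the exceptional generator dies on the strict transform vanishes there. -/
theorem notMem_basicOpen_of_mul_mem (k : Y ⟶ X) {J K : X.IdealSheafData}
    (hJ : BlowUp.IsEffCartierIdeal (J.comap k)) (hK : K.comap k = ⊥) (W : X.affineOpens) {t : Γ(X, W.1)}
    (hJW : J.ideal W = Ideal.span {t}) {a : Γ(X, W.1)} (ha : a * t ∈ K.ideal W) (y : Y) (hy : k y ∈ W.1) :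
    k y ∉ X.basicOpen a := by
  intro hya
  obtain ⟨U, hyU, f, hf, hJU⟩ := hJ y
  obtain ⟨r, hr, hyr⟩ := U.2.exists_basicOpen_le (V := k ⁻¹ᵁ W.1) ⟨y, hy⟩ hyU
  let D : Y.affineOpens := ⟨Y.basicOpen r, U.2.basicOpen r⟩
  have := U.2.isLocalization_basicOpen r
  let ρ := algebraMap Γ(Y, U.1) Γ(Y, Y.basicOpen r)
  let φ := (k.appLE W.1 D.1 hr).hom
  have hmap : ∀ I : X.IdealSheafData, (I.comap k).ideal D = (I.ideal W).map φ := fun I =>
    ModPairLib.ideal_comap I k W D hr
  have hD : (J.comap k).ideal D = Ideal.span {ρ f} := by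
    rw [← (J.comap k).map_ideal (U := D) (V := U) (Y.basicOpen_le r), hJU, Ideal.map_span, Set.image_singleton]
    rfl
  have hρf : ρ f ∈ nonZeroDivisors Γ(Y, Y.basicOpen r) := MeroX.nonZeroDivisors_map (Submonoid.powers r) hf
  have h1 : ρ f ∈ Ideal.span {φ t} := by
    have := hD.ge (Ideal.mem_span_singleton_self (ρ f))
    rwa [hmap, hJW, Ideal.map_span, Set.image_singleton] at this
  obtain ⟨c, hc⟩ := Ideal.mem_span_singleton'.1 h1
  have h2 : φ a * φ t = 0 := by
    have := Ideal.mem_map_of_mem φ ha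
    rw [← hmap, hK, Scheme.IdealSheafData.ideal_bot, Pi.bot_apply, Ideal.mem_bot] at this
    rw [← map_mul]
    exact this
  have h3 : φ a * ρ f = 0 := by rw [← hc, mul_left_comm, h2, mul_zero]
  have h4 : φ a = 0 := mem_nonZeroDivisors_iff_right.1 hρf _ h3
  have h5 : y ∈ Y.basicOpen (k.appLE W.1 D.1 hr a) := by
    rw [Scheme.basicOpen_appLE]
    exact ⟨hyr, hya⟩
  rw [show k.appLE W.1 D.1 hr a = 0 from h4, Scheme.basicOpen_zero] at h5
  exact h5

end Groth.Agent.BlowSep17
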